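import Groth.Agent.SurfAmpleLib.Triv
import Groth.Agent.CycKSuppLib.Killed
import Groth.Agent.SurfNumLib.CastSev
import Groth.Agent.P1InterLib.FibreProd

/-!
# Sections of invertible modules on a closed subscheme cut out by products of Cartier ideals

The sequence `0 → I ⊗ O/C → O/IC → O/I → 0`, pulled back to a closed subscheme `D` on which the middle term lives,
bounds the sections of an invertible module on `D`.
-/

set_option autoImplicit false
set_option linter.style.haveILetI false
set_option backward.isDefEq.respectTransparency false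
set_option backward.isDefEq.respectTransparency.types false
set_option maxHeartbeats 1000000

universe u

open CategoryTheory CategoryTheory.Limits AlgebraicGeometry TopologicalSpace
open HilbPolyLib DevissLib IntMultLib IntFunLib HodgeIdxLib
open KFlatLib (pb)

noncomputable section

namespace FibSecLib

variable {X D : Scheme.{u}} (ι : D ⟶ X) [IsClosedImmersion ι]

/-- The quotient by a larger ideal is killed by the ideal of the subscheme. -/
theorem kil_quotMod {J : X.IdealSheafData} (h : ι.ker ≤ J) : CycKSuppLib.Kil ι (ClSub.quotMod J) := by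
  refine CycKSuppLib.kil_of_killed ι fun U a ha m => ?_
  refine CycKSuppLib.killed_push J.subschemeι (Coh.structureModule J.subscheme) U a ?_ m
  rw [J.ker_subschemeι]
  exact h U ha

/-- A short exact sequence of modules living on the subscheme restricts to a short exact sequence. -/
theorem shortExact_pull {S : ShortComplex X.Modules} (hS : S.ShortExact) (hk : CycKSuppLib.Kil ι S.X₂) :
    (S.map (Scheme.Modules.pullback ι)).ShortExact := by
  haveI := hS.mono_f
  haveI := hS.epi_g
  have hk₁ := hk.of_mono S.f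
  have hk₃ := hk.of_epi S.g
  haveI := ProjClosedImmLib.preservesHomology_push ι
  let P := Scheme.Modules.pushforward ι
  let S' := S.map (Scheme.Modules.pullback ι)
  let adj := Scheme.Modules.pullbackPushforwardAdjunction ι
  let e : S ≅ S'.map P := ShortComplex.isoMk
    (@asIso _ _ _ _ (adj.unit.app S.X₁) (DevissLib.isIso_unit_of_killed ι hk₁.killed))
    (@asIso _ _ _ _ (adj.unit.app S.X₂) (DevissLib.isIso_unit_of_killed ι hk.killed))
    (@asIso _ _ _ _ (adj.unit.app S.X₃) (DevissLib.isIso_unit_of_killed ι hk₃.killed))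
    ((adj.unit.naturality S.f).symm) ((adj.unit.naturality S.g).symm)
  have hS' : (S'.map P).ShortExact := ShortComplex.shortExact_of_iso e hS
  exact { exact := (S'.exact_map_iff_of_faithful P).1 hS'.exact
          mono_f := P.mono_of_mono_map hS'.mono_f
          epi_g := P.epi_of_epi_map hS'.epi_g }

variable {k : Type u} [Field k] [X.Over (Spec (CommRingCat.of k))] [D.Over (Spec (CommRingCat.of k))]
  [IsProper (X ↘ Spec (CommRingCat.of k))]
  (hι : ι ≫ (X ↘ Spec (CommRingCat.of k)) = D ↘ Spec (CommRingCat.of k))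

include hι in
theorem isProper_sub : IsProper (D ↘ Spec (CommRingCat.of k)) := hι ▸ inferInstance

variable [IsProper (D ↘ Spec (CommRingCat.of k))] {N₀ : D.Modules} (hN : PicF.IsInvertible N₀)

include hN in
/-- Peeling off one factor. -/
theorem hh_step {I C : X.IdealSheafData} (hI : BlowUp.IsEffCartierIdeal I) (hC : BlowUp.IsEffCartierIdeal C)
    (hle : ι.ker ≤ I * C) (h₁ : hh k (CohB1.tensorMod N₀ (pb ι (CohB1.tensorMod (ClSub.idealMod I) (ClSub.quotMod C)))) 0 = 0)
    (h₃ : hh k (CohB1.tensorMod N₀ (pb ι (ClSub.quotMod I))) 0 = 0) :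
    hh k (CohB1.tensorMod N₀ (pb ι (ClSub.quotMod (I * C)))) 0 = 0 := by
  haveI := CurvLib.isNoetherian k (X := X)
  haveI := CurvLib.isNoetherian k (X := D)
  obtain ⟨S, hS, ⟨e₁⟩, ⟨e₂⟩, ⟨e₃⟩⟩ := SurfAmpleLib.exists_quotSeq hI hC
  have hk : CycKSuppLib.Kil ι S.X₂ := (kil_quotMod ι hle).of_iso e₂.symm
  have hT := HilbPolyLib.shortExact_tensor hN (shortExact_pull ι hS hk)
  have hcoh : ∀ {F : X.Modules}, Coh.IsCoh F → Coh.IsCoh (CohB1.tensorMod N₀ (pb ι F)) := fun hF =>
    HilbPolyLib.isCoh_tensor hN (ConsLib.isCoh_pullback ι hF)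
  have c₁ : Coh.IsCoh S.X₁ := QCohLib.isCoh_of_iso e₁.symm (HilbPolyLib.isCoh_tensor (IntMultLib.isInvertible_idealMod I hI) (CurvLib.isCoh_quotMod _))
  have c₂ : Coh.IsCoh S.X₂ := QCohLib.isCoh_of_iso e₂.symm (CurvLib.isCoh_quotMod _)
  have c₃ : Coh.IsCoh S.X₃ := QCohLib.isCoh_of_iso e₃.symm (CurvLib.isCoh_quotMod _)
  have hle' := SurfAmpleLib.hh_le_mid (k := k) hT (hcoh c₁) (hcoh c₂) (hcoh c₃) 0
  change hh k (CohB1.tensorMod N₀ (pb ι S.X₂)) 0 ≤
    hh k (CohB1.tensorMod N₀ (pb ι S.X₁)) 0 + hh k (CohB1.tensorMod N₀ (pb ι S.X₃)) 0 at hle'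
  rw [hh_congr (k := k) (congrRight N₀ ((Scheme.Modules.pullback ι).mapIso e₁)) 0,
    hh_congr (k := k) (congrRight N₀ ((Scheme.Modules.pullback ι).mapIso e₂)) 0,
    hh_congr (k := k) (congrRight N₀ ((Scheme.Modules.pullback ι).mapIso e₃)) 0] at hle'
  change hh k (CohB1.tensorMod N₀ (pb ι (ClSub.quotMod (I * C)))) 0 ≤
    hh k (CohB1.tensorMod N₀ (pb ι (CohB1.tensorMod (ClSub.idealMod I) (ClSub.quotMod C)))) 0 +
      hh k (CohB1.tensorMod N₀ (pb ι (ClSub.quotMod I))) 0 at hle'
  omega

include hN in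
/-- The empty piece has no sections. -/
theorem hh_top [IsIntegral X] : hh k (CohB1.tensorMod N₀ (pb ι (ClSub.quotMod (⊤ : X.IdealSheafData)))) 0 = 0 := by
  haveI := CurvLib.isNoetherian k (X := X)
  have hz : IsZero (ClSub.quotMod (⊤ : X.IdealSheafData)) := DevissLib.isZero_of_support_empty (by
    rw [SurfNumLib.support_quotMod_eq, Scheme.IdealSheafData.support_top]
    rfl)
  have hz' : IsZero (CohB1.tensorMod N₀ (pb ι (ClSub.quotMod (⊤ : X.IdealSheafData)))) :=
    ((DCoh.tensorBi (X := D)).obj N₀).map_isZero ((Scheme.Modules.pullback ι).map_isZero hz)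
  haveI := CurvLib.isNoetherian k (X := D)
  by_contra hne0
  obtain ⟨χ, hχ⟩ := hh_pos_of_hom (k := k)
    (HilbPolyLib.isCoh_tensor hN (ConsLib.isCoh_pullback ι (CurvLib.isCoh_quotMod _))) hne0
  exact hχ (hz'.eq_of_tgt _ _)

include hN in
/-- The whole subscheme. -/
theorem hh_full : hh k (CohB1.tensorMod N₀ (pb ι (ClSub.quotMod ι.ker))) 0 = hh k N₀ 0 := by
  obtain ⟨e⟩ := SurfNumLib.quotMod_ker_iso ι
  exact hh_congr (k := k) (congrRight N₀ ((Scheme.Modules.pullback ι).mapIso e ≪≫ CycKSuppLib.pullPushIso ι _) ≪≫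
    swapIso _ _ ≪≫ unitLeft N₀) 0

include hι hN in
/-- The piece supported on an integral curve has no sections when its degree is negative. -/
theorem hh_curve [IsAlgClosed k] {I C : X.IdealSheafData} (hI : BlowUp.IsEffCartierIdeal I)
    [IsIntegral C.subscheme] (hd : topologicalKrullDim (C.support : Set X) = 1) (hle : ι.ker ≤ C)
    (hneg : N k [N₀] (pb ι (ClSub.quotMod C)) + N k [ClSub.idealMod I] (ClSub.quotMod C) < 0) :
    hh k (CohB1.tensorMod N₀ (pb ι (CohB1.tensorMod (ClSub.idealMod I) (ClSub.quotMod C)))) 0 = 0 := by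
  haveI := CurvLib.isNoetherian k (X := X)
  haveI := CurvLib.isNoetherian k (X := D)
  letI : C.subscheme.Over (Spec (CommRingCat.of k)) := ⟨C.subschemeι ≫ (X ↘ Spec (CommRingCat.of k))⟩
  haveI : IsProper (C.subscheme ↘ Spec (CommRingCat.of k)) :=
    inferInstanceAs (IsProper (C.subschemeι ≫ (X ↘ Spec (CommRingCat.of k))))
  haveI := CurvLib.isNoetherian k (X := C.subscheme)
  let j : C.subscheme ⟶ D := IsClosedImmersion.lift ι C.subschemeι (by rwa [C.ker_subschemeι])
  have hj : j ≫ ι = C.subschemeι := IsClosedImmersion.lift_fac _ _ _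
  haveI : IsClosedImmersion (j ≫ ι) := hj.symm ▸ inferInstance
  haveI : IsClosedImmersion j := IsClosedImmersion.of_comp j ι
  have hjk : j ≫ (D ↘ Spec (CommRingCat.of k)) = C.subscheme ↘ Spec (CommRingCat.of k) := by
    rw [← hι, ← Category.assoc, hj]
    rfl
  let L : D.Modules := CohB1.tensorMod N₀ (pb ι (ClSub.idealMod I))
  have hIY := IntMultLib.isInvertible_idealMod I hI
  have hIp := AmpleDevLib.isInvertible_pb ι hIY
  have hL : PicF.IsInvertible L := HilbPolyLib.isInvertible_tensor hN hIp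
  have hW : topologicalKrullDim C.subscheme = 1 :=
    ((C.subschemeι.isEmbedding.toHomeomorph.trans
      (Homeomorph.setCongr C.range_subschemeι)).isHomeomorph.topologicalKrullDim_eq).trans hd
  -- the quotient on the subscheme
  let eC : pb ι (ClSub.quotMod C) ≅ (Coh.push j).obj (Coh.structureModule C.subscheme) :=
    (Scheme.Modules.pullback ι).mapIso
      ((Scheme.Modules.pushforwardCongr hj.symm).app (Coh.structureModule C.subscheme) ≪≫
        ((Scheme.Modules.pushforwardComp j ι).app (Coh.structureModule C.subscheme)).symm) ≪≫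
      CycKSuppLib.pullPushIso ι _
  let eT : pb ι (CohB1.tensorMod (ClSub.idealMod I) (ClSub.quotMod C)) ≅
      CohB1.tensorMod (pb ι (ClSub.idealMod I)) (pb ι (ClSub.quotMod C)) :=
    asIso (KFlatLib.pullθ ι (ClSub.idealMod I) (ClSub.quotMod C))
  have hP : FlatMod.IsFinLocFree L := CurveVBLib.isFinLocFree_of_rank (CurvLib.locFree_of_isInvertible hL)
  let pr := @asIso _ _ _ _ (ProjFormLib.projApp j L (Coh.structureModule C.subscheme))
    (ProjFormLib.isIso_projApp j hP (Coh.structureModule C.subscheme))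
  let e : (Coh.push j).obj (pb j L) ≅ CohB1.tensorMod N₀ (pb ι (CohB1.tensorMod (ClSub.idealMod I) (ClSub.quotMod C))) :=
    (Coh.push j).mapIso (swapIso _ _ ≪≫ unitLeft _).symm ≪≫ pr.symm ≪≫
      assocIso N₀ (pb ι (ClSub.idealMod I)) _ ≪≫ congrRight N₀ (congrRight _ eC.symm ≪≫ eT.symm)
  have hjL := AmpleDevLib.isInvertible_pb j hL
  haveI : Coh.IsQCoh (pb j L) := (CurvLib.isCoh_of_isInvertible hjL).1
  rw [← hh_congr (k := k) e 0, show hh k ((Coh.push j).obj (pb j L)) 0 = hh k (pb j L) 0 from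
    ((PushLinLib.euler_push k j hjk _).1 0).symm]
  have hN' : N k [pb C.subschemeι (ClSub.idealMod I)] (Coh.structureModule C.subscheme) =
      N k [ClSub.idealMod I] (ClSub.quotMod C) :=
    N_push (k := k) rfl (l := [ClSub.idealMod I]) (by simpa using hIY) (DevissLib.isCoh_structureModule C.subscheme)
      ((topologicalKrullDim_subspace_le _ _).trans (by rw [hW]; simp))
  have hadd : N k [pb j L] (Coh.structureModule C.subscheme) =
      N k [pb j N₀] (Coh.structureModule C.subscheme) + N k [ClSub.idealMod I] (ClSub.quotMod C) := by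
    let eI : pb j (pb ι (ClSub.idealMod I)) ≅ pb C.subschemeι (ClSub.idealMod I) :=
      (Scheme.Modules.pullbackComp j ι).app _ ≪≫ (Scheme.Modules.pullbackCongr hj).app _
    let eL : pb j L ≅ CohB1.tensorMod (pb j N₀) (pb C.subschemeι (ClSub.idealMod I)) :=
      asIso (KFlatLib.pullθ j N₀ (pb ι (ClSub.idealMod I))) ≪≫ congrRight _ eI
    rw [N_congr_head eL, N_tensor (k := k) (l := []) (by simp) (AmpleDevLib.isInvertible_pb j hN)
      (AmpleDevLib.isInvertible_pb C.subschemeι hIY) (DevissLib.isCoh_structureModule C.subscheme)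
      ((topologicalKrullDim_subspace_le _ _).trans (by rw [hW]; simp)), hN']
  have hjN : N k [pb j N₀] (Coh.structureModule C.subscheme) = N k [N₀] (pb ι (ClSub.quotMod C)) :=
    (N_push (k := k) hjk (l := [N₀]) (by simpa using hN) (DevissLib.isCoh_structureModule C.subscheme)
      ((topologicalKrullDim_subspace_le _ _).trans (by rw [hW]; simp))).trans (N_congr _ eC.symm)
  exact (SurfAmpleLib.h0_bound_curve (k := k) hW hjL (by omega)).2.1 (by omega)

/-- A curve of the subscheme, seen in the ambient scheme. -/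
theorem nonempty_pb_Fpt (ξ : D) : Nonempty (pb ι (Fpt (ι ξ)) ≅ Fpt ξ) := by
  haveI := isIntegral_ptIdeal ξ
  let g := (ptIdeal ξ).subschemeι
  haveI : IsClosedImmersion (g ≫ ι) := inferInstance
  have hgη : g (genericPoint (ptIdeal ξ).subscheme) = ξ := by
    refine (Specializes.antisymm (specializes_iff_mem_closure.2 ?_) (specializes_iff_mem_closure.2 ?_)).eq
    · obtain ⟨a, ha⟩ := (range_ptIdeal ξ).ge (subset_closure rfl)
      have h1 : g a ∈ closure ({g (genericPoint (ptIdeal ξ).subscheme)} : Set D) :=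
        specializes_iff_mem_closure.1 (((genericPoint_spec _).specializes trivial).map g.continuous)
      exact ha.subst (motive := fun y => y ∈ closure ({g (genericPoint (ptIdeal ξ).subscheme)} : Set D)) h1
    · exact (range_ptIdeal ξ).le ⟨_, rfl⟩
  have hker : (g ≫ ι).ker = ptIdeal (ι ξ) := by
    rw [P1InterLib.ker_eq_ptIdeal]
    exact congrArg _ (congrArg ι hgη)
  obtain ⟨e⟩ := SurfNumLib.quotMod_ker_iso (g ≫ ι)
  exact ⟨(Scheme.Modules.pullback ι).mapIso (eqToIso (congrArg ClSub.quotMod hker.symm) ≪≫ e ≪≫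
    ((Scheme.Modules.pushforwardComp g ι).app _).symm) ≪≫ CycKSuppLib.pullPushIso ι _⟩

end FibSecLib

end
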